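import Cfsg.Agent.Lib.Helper6.TC12
import Cfsg.Prelude.Def_Spor_HN

set_option autoImplicit false
set_option linter.unusedSimpArgs false

namespace Cfsg.Agent.Lib.Helper6.TCP.HN

open Cfsg.Spor Cfsg.Agent.Lib.Helper6.TC

/-! # The presentation of the Harada–Norton group: columns and base words -/

abbrev Rels : Set (FreeGroup HN.Gen) := coxRelators HN.edges ∪ {r | r ∈ HN.extra}

/-- the generator (and the sign) of a column: `x, x⁻¹, y, y⁻¹, z, t, t⁻¹` -/
def gc : ℕ → HN.Gen × Bool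
  | 0 => (.x, false)
  | 1 => (.x, true)
  | 2 => (.y, false)
  | 3 => (.y, true)
  | 4 => (.z, false)
  | 5 => (.t, false)
  | _ => (.t, true)

/-- the relators as words of columns -/
def base : List (List ℕ) := [
  [2, 2, 2, 2, 2, 2],
  [0, 0, 2, 0, 0, 3],
  [1, 3, 0, 2, 1, 3, 0, 2, 1, 3, 0, 2],
  [1, 2, 2, 0, 2, 2, 2, 1, 2, 2, 0, 2, 2, 2, 1, 2, 2, 0, 2, 2, 2],
  [0, 2, 0, 2, 0, 2, 0, 2, 0, 2, 0, 2, 0, 2, 0, 2],
  [0, 2, 0, 2, 2, 2, 0, 2, 0, 2, 2, 2, 0, 2, 0, 2, 2, 2, 0, 2, 0, 2, 2, 2],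
  [4, 4],
  [4, 0, 4, 0],
  [4, 2, 1, 3, 3, 1, 3, 1, 3, 4, 2, 0, 2, 0, 2, 2, 0, 3, 1, 1],
  [4, 3, 1, 3, 1, 3, 3, 3, 4, 2, 2, 2, 0, 2, 0, 2, 0, 3, 1, 3, 1, 3, 3, 3, 4, 2, 2, 2, 0, 2, 0, 2, 0, 3, 1, 3, 1, 3, 3, 3, 4, 2, 2, 2, 0, 2, 0, 2, 0],
  [5, 5, 5, 5, 5],
  [1, 5, 0, 5, 5],
  [6, 3, 5, 2],
  [4, 5, 4, 5, 4, 5],
  [0, 1],
  [2, 3],
  [5, 6]]

/-- the inverse columns -/
def INV : ℕ := 90448641

theorem hbl : ∀ b ∈ base, ∀ c ∈ b, c < 7 := by decide +kernel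

theorem ce0 : ceOf gc 0 = HN.x := rfl
theorem ce1 : ceOf gc 1 = HN.x⁻¹ := rfl
theorem ce2 : ceOf gc 2 = HN.y := rfl
theorem ce3 : ceOf gc 3 = HN.y⁻¹ := rfl
theorem ce4 : ceOf gc 4 = HN.z := rfl
theorem ce5 : ceOf gc 5 = HN.t := rfl
theorem ce6 : ceOf gc 6 = HN.t⁻¹ := rfl

theorem mem_extra (k : ℕ) (hk : k < HN.extra.length) :
    PresentedGroup.mk Rels (HN.extra[k]) = 1 :=
  PresentedGroup.one_of_mem (Or.inr (List.getElem_mem hk))

theorem hb0 : wordElt gc [2, 2, 2, 2, 2, 2] = HN.extra[0]'(by decide) := by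
  simp only [wordElt_cons, wordElt_nil, ce0, ce1, ce2, ce3, ce4, ce5, ce6, HN.extra, List.getElem_cons_zero, List.getElem_cons_succ,
    pow_succ, pow_zero, one_mul, mul_one, mul_assoc, mul_inv_rev, inv_inv]

theorem hb1 : wordElt gc [0, 0, 2, 0, 0, 3] = HN.extra[1]'(by decide) := by
  simp only [wordElt_cons, wordElt_nil, ce0, ce1, ce2, ce3, ce4, ce5, ce6, HN.extra, List.getElem_cons_zero, List.getElem_cons_succ,
    pow_succ, pow_zero, one_mul, mul_one, mul_assoc, mul_inv_rev, inv_inv]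

theorem hb2 : wordElt gc [1, 3, 0, 2, 1, 3, 0, 2, 1, 3, 0, 2] = HN.extra[2]'(by decide) := by
  simp only [wordElt_cons, wordElt_nil, ce0, ce1, ce2, ce3, ce4, ce5, ce6, HN.extra, List.getElem_cons_zero, List.getElem_cons_succ,
    pow_succ, pow_zero, one_mul, mul_one, mul_assoc, mul_inv_rev, inv_inv]

theorem hb3 : wordElt gc [1, 2, 2, 0, 2, 2, 2, 1, 2, 2, 0, 2, 2, 2, 1, 2, 2, 0, 2, 2, 2] = HN.extra[3]'(by decide) := by
  simp only [wordElt_cons, wordElt_nil, ce0, ce1, ce2, ce3, ce4, ce5, ce6, HN.extra, List.getElem_cons_zero, List.getElem_cons_succ,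
    pow_succ, pow_zero, one_mul, mul_one, mul_assoc, mul_inv_rev, inv_inv]

theorem hb4 : wordElt gc [0, 2, 0, 2, 0, 2, 0, 2, 0, 2, 0, 2, 0, 2, 0, 2] = HN.extra[4]'(by decide) := by
  simp only [wordElt_cons, wordElt_nil, ce0, ce1, ce2, ce3, ce4, ce5, ce6, HN.extra, List.getElem_cons_zero, List.getElem_cons_succ,
    pow_succ, pow_zero, one_mul, mul_one, mul_assoc, mul_inv_rev, inv_inv]

theorem hb5 : wordElt gc [0, 2, 0, 2, 2, 2, 0, 2, 0, 2, 2, 2, 0, 2, 0, 2, 2, 2, 0, 2, 0, 2, 2, 2] = HN.extra[5]'(by decide) := by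
  simp only [wordElt_cons, wordElt_nil, ce0, ce1, ce2, ce3, ce4, ce5, ce6, HN.extra, List.getElem_cons_zero, List.getElem_cons_succ,
    pow_succ, pow_zero, one_mul, mul_one, mul_assoc, mul_inv_rev, inv_inv]

theorem hb6 : wordElt gc [4, 4] = HN.extra[6]'(by decide) := by
  simp only [wordElt_cons, wordElt_nil, ce0, ce1, ce2, ce3, ce4, ce5, ce6, HN.extra, List.getElem_cons_zero, List.getElem_cons_succ,
    pow_succ, pow_zero, one_mul, mul_one, mul_assoc, mul_inv_rev, inv_inv]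

theorem hb7 : wordElt gc [4, 0, 4, 0] = HN.extra[7]'(by decide) := by
  simp only [wordElt_cons, wordElt_nil, ce0, ce1, ce2, ce3, ce4, ce5, ce6, HN.extra, List.getElem_cons_zero, List.getElem_cons_succ,
    pow_succ, pow_zero, one_mul, mul_one, mul_assoc, mul_inv_rev, inv_inv]

theorem hb8 : HN.extra[8]'(by decide) = HN.z⁻¹ * wordElt gc [2, 1, 3, 3, 1, 3, 1, 3, 4, 2, 0, 2, 0, 2, 2, 0, 3, 1, 1] := by
  simp only [wordElt_cons, wordElt_nil, ce0, ce1, ce2, ce3, ce4, ce5, ce6, HN.extra, List.getElem_cons_zero, List.getElem_cons_succ,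
    pow_succ, pow_zero, one_mul, mul_one, mul_assoc, mul_inv_rev, inv_inv]

theorem hz : PresentedGroup.mk Rels HN.z * PresentedGroup.mk Rels HN.z = 1 := by
  have := mem_extra 6 (by decide)
  rw [← hb6, wordElt_cons, wordElt_cons, wordElt_nil, mul_one, ce4, map_mul] at this
  exact this

theorem hb9 : wordElt gc [4, 3, 1, 3, 1, 3, 3, 3, 4, 2, 2, 2, 0, 2, 0, 2, 0, 3, 1, 3, 1, 3, 3, 3, 4, 2, 2, 2, 0, 2, 0, 2, 0, 3, 1, 3, 1, 3, 3, 3, 4, 2, 2, 2, 0, 2, 0, 2, 0] = HN.extra[9]'(by decide) := by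
  simp only [wordElt_cons, wordElt_nil, ce0, ce1, ce2, ce3, ce4, ce5, ce6, HN.extra, List.getElem_cons_zero, List.getElem_cons_succ,
    pow_succ, pow_zero, one_mul, mul_one, mul_assoc, mul_inv_rev, inv_inv]

theorem hb10 : wordElt gc [5, 5, 5, 5, 5] = HN.extra[10]'(by decide) := by
  simp only [wordElt_cons, wordElt_nil, ce0, ce1, ce2, ce3, ce4, ce5, ce6, HN.extra, List.getElem_cons_zero, List.getElem_cons_succ,
    pow_succ, pow_zero, one_mul, mul_one, mul_assoc, mul_inv_rev, inv_inv]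

theorem hb11 : wordElt gc [1, 5, 0, 5, 5] = HN.extra[11]'(by decide) := by
  simp only [wordElt_cons, wordElt_nil, ce0, ce1, ce2, ce3, ce4, ce5, ce6, HN.extra, List.getElem_cons_zero, List.getElem_cons_succ,
    pow_succ, pow_zero, one_mul, mul_one, mul_assoc, mul_inv_rev, inv_inv]

theorem hb12 : wordElt gc [6, 3, 5, 2] = HN.extra[12]'(by decide) := by
  simp only [wordElt_cons, wordElt_nil, ce0, ce1, ce2, ce3, ce4, ce5, ce6, HN.extra, List.getElem_cons_zero, List.getElem_cons_succ,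
    pow_succ, pow_zero, one_mul, mul_one, mul_assoc, mul_inv_rev, inv_inv]

theorem hb13 : wordElt gc [4, 5, 4, 5, 4, 5] = HN.extra[13]'(by decide) := by
  simp only [wordElt_cons, wordElt_nil, ce0, ce1, ce2, ce3, ce4, ce5, ce6, HN.extra, List.getElem_cons_zero, List.getElem_cons_succ,
    pow_succ, pow_zero, one_mul, mul_one, mul_assoc, mul_inv_rev, inv_inv]

theorem hbase : ∀ b ∈ base, PresentedGroup.mk Rels (wordElt gc b) = 1 := by
  intro b hb
  simp only [base, List.mem_cons, List.mem_nil_iff, or_false] at hb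
  rcases hb with rfl | rfl | rfl | rfl | rfl | rfl | rfl | rfl | rfl | rfl | rfl | rfl | rfl | rfl | rfl | rfl | rfl
  · rw [hb0]; exact mem_extra 0 (by decide)
  · rw [hb1]; exact mem_extra 1 (by decide)
  · rw [hb2]; exact mem_extra 2 (by decide)
  · rw [hb3]; exact mem_extra 3 (by decide)
  · rw [hb4]; exact mem_extra 4 (by decide)
  · rw [hb5]; exact mem_extra 5 (by decide)
  · rw [hb6]; exact mem_extra 6 (by decide)
  · rw [hb7]; exact mem_extra 7 (by decide)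
  · have h := mem_extra 8 (by decide)
    rw [hb8, map_mul, map_inv, ← eq_inv_of_mul_eq_one_right hz] at h
    rw [wordElt_cons, map_mul, ce4]
    exact h
  · rw [hb9]; exact mem_extra 9 (by decide)
  · rw [hb10]; exact mem_extra 10 (by decide)
  · rw [hb11]; exact mem_extra 11 (by decide)
  · rw [hb12]; exact mem_extra 12 (by decide)
  · rw [hb13]; exact mem_extra 13 (by decide)
  · rw [wordElt_cons, wordElt_cons, wordElt_nil, mul_one, ce0, ce1, mul_inv_cancel, map_one]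
  · rw [wordElt_cons, wordElt_cons, wordElt_nil, mul_one, ce2, ce3, mul_inv_cancel, map_one]
  · rw [wordElt_cons, wordElt_cons, wordElt_nil, mul_one, ce5, ce6, mul_inv_cancel, map_one]

theorem hinvG : ∀ c < 7, PresentedGroup.mk Rels (ceOf gc (invc INV c)) =
    (PresentedGroup.mk Rels (ceOf gc c))⁻¹ := by
  intro c hc
  interval_cases c
  · show PresentedGroup.mk Rels (ceOf gc 1) = _
    rw [ce1, ce0, map_inv]
  · show PresentedGroup.mk Rels (ceOf gc 0) = _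
    rw [ce1, ce0, map_inv, inv_inv]
  · show PresentedGroup.mk Rels (ceOf gc 3) = _
    rw [ce3, ce2, map_inv]
  · show PresentedGroup.mk Rels (ceOf gc 2) = _
    rw [ce3, ce2, map_inv, inv_inv]
  · show PresentedGroup.mk Rels (ceOf gc 4) = _
    rw [ce4]
    exact eq_inv_of_mul_eq_one_right hz
  · show PresentedGroup.mk Rels (ceOf gc 6) = _
    rw [ce6, ce5, map_inv]
  · show PresentedGroup.mk Rels (ceOf gc 5) = _
    rw [ce6, ce5, map_inv, inv_inv]

end Cfsg.Agent.Lib.Helper6.TCP.HN
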