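import Cfsg.Agent.Lib.Helper6.WP8

set_option autoImplicit false

namespace Cfsg.Agent.Lib.Helper6.TCP.J2

open Cfsg.Agent.Lib.Helper6.TC

/-! # The presentation of the Hall-Janko group on five involutions -/

/-- the relators as words of columns -/
def base : List (List ℕ) := [
  [0, 0],
  [1, 1],
  [2, 2],
  [3, 3],
  [4, 4],
  [0, 1, 0, 1, 0, 1, 0, 1, 0, 1],
  [0, 2, 0, 2],
  [0, 3, 0, 3],
  [0, 4, 0, 4],
  [1, 2, 1, 2, 1, 2],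
  [1, 3, 1, 3],
  [1, 4, 1, 4],
  [2, 3, 2, 3, 2, 3, 2, 3, 2, 3, 2, 3, 2, 3, 2, 3],
  [2, 4, 2, 4],
  [3, 4, 3, 4, 3, 4],
  [0, 3, 2, 3, 2, 3, 2, 3, 2],
  [1, 2, 3, 2, 3, 1, 2, 3, 2, 3, 1, 2, 3, 2, 3, 1, 2, 3, 2, 3, 1, 2, 3, 2, 3, 4, 1, 2, 3, 2, 3, 1, 2, 3, 2, 3, 1, 2, 3, 2, 3, 1, 2, 3, 2, 3, 1, 2, 3, 2, 3, 4, 1, 2, 3, 2, 3, 1, 2, 3, 2, 3, 1, 2, 3, 2, 3, 1, 2, 3, 2, 3, 1, 2, 3, 2, 3, 4]]

/-- the inverse columns -/
def INV : ℕ := 274960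

abbrev Rels : Set (FreeGroup (Fin 5)) := wrels 5 base

abbrev gc : ℕ → Fin 5 × Bool := gcF 5

/-- the presented group -/
abbrev G : Type := WG 5 base

theorem hC : CHyp gc (fun g : Fin 5 => g.val) 5 INV := wp_hC' INV

theorem hgen : ∀ g : Fin 5, ∃ c < 5, gc c = (g, false) := wp_hgen

theorem hinv1 : ∀ c < 5, invc INV c < 5 := by decide

theorem hinvinv : ∀ c < 5, invc INV (invc INV c) = c := by decide

theorem hbl : ∀ b ∈ base, ∀ c ∈ b, c < 5 := by decide +kernel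

theorem hbase : ∀ b ∈ base, PresentedGroup.mk Rels (wordElt gc b) = 1 := wp_hbase

theorem hpair : ∀ c < 5, [c, invc INV c] ∈ base ∨ [invc INV c, c] ∈ base := by decide +kernel

theorem hinvG : ∀ c < 5, PresentedGroup.mk Rels (ceOf gc (invc INV c)) =
    (PresentedGroup.mk Rels (ceOf gc c))⁻¹ := wp_hinvG' hpair

theorem rel_cover {N : ℕ} {px : ℕ → ℕ → ℕ} (_hP : PHyp px N 5 INV)
    (hfix : ∀ b ∈ base, ∀ p < N, wapp px b p = p) :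
    ∀ r ∈ Rels, ∀ ψ : FreeGroup (Fin 5) →* Equiv.Perm (Fin N),
      (∀ c < 5, ψ (ceOf gc (invc INV c)) = (ψ (ceOf gc c))⁻¹) →
      ∃ w, (∀ c ∈ w, c < 5) ∧ ψ r = ψ (wordElt gc w) ∧ ∀ p < N, wapp px w p = p :=
  wp_rel_cover hbl hfix

end Cfsg.Agent.Lib.Helper6.TCP.J2
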