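import Cfsg.Agent.Lib.Helper6.TC12
import Cfsg.Prelude.Def_Spor_ON

set_option autoImplicit false

namespace Cfsg.Agent.Lib.Helper6.TCP.ON

open Cfsg.Spor Cfsg.Agent.Lib.Helper6.TC

/-! # The presentation of O'N: columns (`g` and its inverse, then the involutions), base words
and relators -/

abbrev Rels : Set (FreeGroup ON.Gen) := coxRelators ON.edges ∪ {r | r ∈ ON.extra}

/-- the generator of a column -/
def gen : ℕ → ON.Gen
  | 0 => .g | 1 => .g | 2 => .a | 3 => .b | 4 => .c | 5 => .d | 6 => .e | _ => .f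

/-- the generator and the sign of a column: the column `1` is the inverse of `g` -/
def gc (c : ℕ) : ON.Gen × Bool := (gen c, Nat.beq c 1)

theorem ceOf_c0 : ceOf gc 0 = FreeGroup.of ON.Gen.g := rfl
theorem ceOf_c1 : ceOf gc 1 = (FreeGroup.of ON.Gen.g)⁻¹ := rfl
theorem ceOf_c2 : ceOf gc 2 = FreeGroup.of ON.Gen.a := rfl
theorem ceOf_c3 : ceOf gc 3 = FreeGroup.of ON.Gen.b := rfl
theorem ceOf_c4 : ceOf gc 4 = FreeGroup.of ON.Gen.c := rfl
theorem ceOf_c5 : ceOf gc 5 = FreeGroup.of ON.Gen.d := rfl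
theorem ceOf_c6 : ceOf gc 6 = FreeGroup.of ON.Gen.e := rfl
theorem ceOf_c7 : ceOf gc 7 = FreeGroup.of ON.Gen.f := rfl

/-- the column of a generator -/
def col : ON.Gen → ℕ
  | .g => 0 | .a => 2 | .b => 3 | .c => 4 | .d => 5 | .e => 6 | .f => 7

/-- the inverse columns -/
def INV : ℕ := 1985229313

theorem col_lt (g : ON.Gen) : col g < 8 := by cases g <;> decide

theorem gc_col (g : ON.Gen) : gc (col g) = (g, false) := by cases g <;> rfl

theorem hC : CHyp gc col 8 INV where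
  hcol := fun g => ⟨col_lt g, gc_col g⟩
  hgc := by
    intro c hc h
    interval_cases c
    · rfl
    · exact absurd h (by decide)
    all_goals rfl
  hgc' := by
    intro c hc h
    interval_cases c
    · exact absurd h (by decide)
    · rfl
    all_goals exact absurd h (by decide)

theorem hgen : ∀ g : ON.Gen, ∃ c < 8, gc c = (g, false) :=
  fun g => ⟨col g, col_lt g, gc_col g⟩

theorem cox_rel (x y : ON.Gen) (hx : x ∈ coxNodes ON.edges) (hy : y ∈ coxNodes ON.edges) :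
    PresentedGroup.mk Rels ((FreeGroup.of x * FreeGroup.of y) ^ coxLabel ON.edges x y) = 1 :=
  PresentedGroup.one_of_mem (Or.inl ⟨x, hx, y, hy, rfl⟩)

theorem gen_sq (x : ON.Gen) (hx : x ∈ coxNodes ON.edges) :
    PresentedGroup.mk Rels (FreeGroup.of x) * PresentedGroup.mk Rels (FreeGroup.of x) = 1 := by
  have := cox_rel x x hx hx
  have h1 : coxLabel ON.edges x x = 1 := coxLabel_self _ x
  rw [h1, pow_one, map_mul] at this
  exact this

theorem hxG (x : ON.Gen) (hx : x ∈ coxNodes ON.edges) : (PresentedGroup.mk Rels (FreeGroup.of x))⁻¹ =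
    PresentedGroup.mk Rels (FreeGroup.of x) :=
  (eq_inv_of_mul_eq_one_left (gen_sq x hx)).symm

theorem hinv1 : ∀ c < 8, invc INV c < 8 := by
  intro c hc
  interval_cases c <;> decide

theorem hinvinv : ∀ c < 8, invc INV (invc INV c) = c := by
  intro c hc
  interval_cases c <;> rfl

theorem node_of_col : ∀ c, 2 ≤ c → c < 8 → gen c ∈ coxNodes ON.edges := by
  intro c h2 hc
  interval_cases c <;> decide

theorem hinvG : ∀ c < 8, PresentedGroup.mk Rels (ceOf gc (invc INV c)) =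
    (PresentedGroup.mk Rels (ceOf gc c))⁻¹ := by
  intro c hc
  interval_cases c
  · show PresentedGroup.mk Rels (ceOf gc 1) = _
    rw [ceOf_c1, ceOf_c0, map_inv]
  · show PresentedGroup.mk Rels (ceOf gc 0) = _
    rw [ceOf_c1, ceOf_c0, map_inv, inv_inv]
  · exact eq_inv_of_mul_eq_one_left (gen_sq .a (by decide))
  · exact eq_inv_of_mul_eq_one_left (gen_sq .b (by decide))
  · exact eq_inv_of_mul_eq_one_left (gen_sq .c (by decide))
  · exact eq_inv_of_mul_eq_one_left (gen_sq .d (by decide))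
  · exact eq_inv_of_mul_eq_one_left (gen_sq .e (by decide))
  · exact eq_inv_of_mul_eq_one_left (gen_sq .f (by decide))

/-- the pairs of nodes giving the Coxeter base words -/
def pairs : List (ON.Gen × ON.Gen) :=
  [(.a, .a), (.b, .b), (.c, .c), (.d, .d), (.e, .e), (.f, .f), (.a, .b), (.a, .c), (.a, .d), (.a, .e), (.a, .f), (.b, .c), (.b, .d), (.b, .e), (.b, .f), (.c, .d), (.c, .e), (.c, .f), (.d, .e), (.d, .f), (.e, .f)]

def w0 : List ℕ := [2, 7, 1, 1]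
def w1 : List ℕ := [2, 7, 5, 4, 5, 4, 5, 4, 5, 4]
def w2 : List ℕ := [4, 1, 5, 1, 5, 4, 5, 0, 5, 0]
def w3 : List ℕ := [5, 1, 4, 1, 4, 5, 4, 0, 4, 0]
def w4 : List ℕ := [3, 4, 5, 0, 3, 4, 5, 0, 3, 4, 5, 0, 3, 4, 5, 0, 3, 4, 5, 0]
def w5 : List ℕ := [0, 3, 4, 0, 4, 3, 0, 3, 4, 0, 4]
def w6 : List ℕ := [0, 6, 5, 0, 5, 6, 0, 6, 5, 0, 5]
def wt : List ℕ := [0, 1]

/-- the base words -/
def base : List (List ℕ) :=
  [[2, 2],
  [3, 3],
  [4, 4],
  [5, 5],
  [6, 6],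
  [7, 7],
  [2, 3, 2, 3, 2, 3],
  [2, 4, 2, 4],
  [2, 5, 2, 5],
  [2, 6, 2, 6],
  [2, 7, 2, 7],
  [3, 4, 3, 4, 3, 4],
  [3, 5, 3, 5],
  [3, 6, 3, 6],
  [3, 7, 3, 7],
  [4, 5, 4, 5, 4, 5, 4, 5, 4, 5, 4, 5, 4, 5, 4, 5],
  [4, 6, 4, 6],
  [4, 7, 4, 7],
  [5, 6, 5, 6, 5, 6],
  [5, 7, 5, 7],
  [6, 7, 6, 7, 6, 7],
  [2, 7, 1, 1],
  [2, 7, 5, 4, 5, 4, 5, 4, 5, 4],
  [4, 1, 5, 1, 5, 4, 5, 0, 5, 0],
  [5, 1, 4, 1, 4, 5, 4, 0, 4, 0],
  [3, 4, 5, 0, 3, 4, 5, 0, 3, 4, 5, 0, 3, 4, 5, 0, 3, 4, 5, 0],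
  [0, 3, 4, 0, 4, 3, 0, 3, 4, 0, 4],
  [0, 6, 5, 0, 5, 6, 0, 6, 5, 0, 5],
  [0, 1]]

theorem base_eq : base = pairs.map (fun xy => pairw (col xy.1) (col xy.2) (coxLabel ON.edges xy.1 xy.2)) ++
    [w0, w1, w2, w3, w4, w5, w6, wt] := by
  decide +kernel

theorem hbl : ∀ b ∈ base, ∀ c ∈ b, c < 8 := by decide +kernel

theorem pairs_nodes : ∀ xy ∈ pairs, xy.1 ∈ coxNodes ON.edges ∧ xy.2 ∈ coxNodes ON.edges := by
  decide

theorem extra0 {Γ : Type*} [Group Γ] (ψ : FreeGroup ON.Gen →* Γ)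
    (hx : ∀ x ∈ coxNodes ON.edges, (ψ (FreeGroup.of x))⁻¹ = ψ (FreeGroup.of x)) :
    ψ ((ON.a * ON.f) * ((ON.g ^ 2)⁻¹)) = ψ (wordElt gc w0) := by
  have ha := hx .a (by decide)
  have hb := hx .b (by decide)
  have hc := hx .c (by decide)
  have hd := hx .d (by decide)
  have he := hx .e (by decide)
  have hf := hx .f (by decide)
  simp only [w0, wordElt_cons, wordElt_nil, ceOf_c0, ceOf_c1, ceOf_c2, ceOf_c3, ceOf_c4, ceOf_c5, ceOf_c6,
    ceOf_c7, map_mul, map_pow, map_inv, mul_inv_rev, inv_inv, pow_succ, pow_zero, one_mul, mul_one, mul_assoc,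
    ha, hb, hc, hd, he, hf]

theorem extra1 {Γ : Type*} [Group Γ] (ψ : FreeGroup ON.Gen →* Γ)
    (hx : ∀ x ∈ coxNodes ON.edges, (ψ (FreeGroup.of x))⁻¹ = ψ (FreeGroup.of x)) :
    ψ ((ON.a * ON.f) * (((ON.c * ON.d) ^ 4)⁻¹)) = ψ (wordElt gc w1) := by
  have ha := hx .a (by decide)
  have hb := hx .b (by decide)
  have hc := hx .c (by decide)
  have hd := hx .d (by decide)
  have he := hx .e (by decide)
  have hf := hx .f (by decide)
  simp only [w1, wordElt_cons, wordElt_nil, ceOf_c0, ceOf_c1, ceOf_c2, ceOf_c3, ceOf_c4, ceOf_c5, ceOf_c6,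
    ceOf_c7, map_mul, map_pow, map_inv, mul_inv_rev, inv_inv, pow_succ, pow_zero, one_mul, mul_one, mul_assoc,
    ha, hb, hc, hd, he, hf]

theorem extra2 {Γ : Type*} [Group Γ] (ψ : FreeGroup ON.Gen →* Γ)
    (hx : ∀ x ∈ coxNodes ON.edges, (ψ (FreeGroup.of x))⁻¹ = ψ (FreeGroup.of x)) :
    ψ (ON.c * ((ON.d * ON.g * ON.d * ON.g)⁻¹ * ON.c * (ON.d * ON.g * ON.d * ON.g))) = ψ (wordElt gc w2) := by
  have ha := hx .a (by decide)
  have hb := hx .b (by decide)
  have hc := hx .c (by decide)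
  have hd := hx .d (by decide)
  have he := hx .e (by decide)
  have hf := hx .f (by decide)
  simp only [w2, wordElt_cons, wordElt_nil, ceOf_c0, ceOf_c1, ceOf_c2, ceOf_c3, ceOf_c4, ceOf_c5, ceOf_c6,
    ceOf_c7, map_mul, map_pow, map_inv, mul_inv_rev, inv_inv, pow_succ, pow_zero, one_mul, mul_one, mul_assoc,
    ha, hb, hc, hd, he, hf]

theorem extra3 {Γ : Type*} [Group Γ] (ψ : FreeGroup ON.Gen →* Γ)
    (hx : ∀ x ∈ coxNodes ON.edges, (ψ (FreeGroup.of x))⁻¹ = ψ (FreeGroup.of x)) :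
    ψ (ON.d * ((ON.c * ON.g * ON.c * ON.g)⁻¹ * ON.d * (ON.c * ON.g * ON.c * ON.g))) = ψ (wordElt gc w3) := by
  have ha := hx .a (by decide)
  have hb := hx .b (by decide)
  have hc := hx .c (by decide)
  have hd := hx .d (by decide)
  have he := hx .e (by decide)
  have hf := hx .f (by decide)
  simp only [w3, wordElt_cons, wordElt_nil, ceOf_c0, ceOf_c1, ceOf_c2, ceOf_c3, ceOf_c4, ceOf_c5, ceOf_c6,
    ceOf_c7, map_mul, map_pow, map_inv, mul_inv_rev, inv_inv, pow_succ, pow_zero, one_mul, mul_one, mul_assoc,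
    ha, hb, hc, hd, he, hf]

theorem extra4 {Γ : Type*} [Group Γ] (ψ : FreeGroup ON.Gen →* Γ)
    (hx : ∀ x ∈ coxNodes ON.edges, (ψ (FreeGroup.of x))⁻¹ = ψ (FreeGroup.of x)) :
    ψ ((ON.b * ON.c * ON.d * ON.g) ^ 5) = ψ (wordElt gc w4) := by
  have ha := hx .a (by decide)
  have hb := hx .b (by decide)
  have hc := hx .c (by decide)
  have hd := hx .d (by decide)
  have he := hx .e (by decide)
  have hf := hx .f (by decide)
  simp only [w4, wordElt_cons, wordElt_nil, ceOf_c0, ceOf_c1, ceOf_c2, ceOf_c3, ceOf_c4, ceOf_c5, ceOf_c6,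
    ceOf_c7, map_mul, map_pow, map_inv, mul_inv_rev, inv_inv, pow_succ, pow_zero, one_mul, mul_one, mul_assoc,
    ha, hb, hc, hd, he, hf]

theorem extra5 {Γ : Type*} [Group Γ] (ψ : FreeGroup ON.Gen →* Γ)
    (hx : ∀ x ∈ coxNodes ON.edges, (ψ (FreeGroup.of x))⁻¹ = ψ (FreeGroup.of x)) :
    ψ (ON.g * ON.b * (ON.c⁻¹ * ON.g * ON.c) * (ON.b⁻¹ * ON.g * ON.b) * (ON.c⁻¹ * ON.g * ON.c)) = ψ (wordElt gc w5) := by
  have ha := hx .a (by decide)
  have hb := hx .b (by decide)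
  have hc := hx .c (by decide)
  have hd := hx .d (by decide)
  have he := hx .e (by decide)
  have hf := hx .f (by decide)
  simp only [w5, wordElt_cons, wordElt_nil, ceOf_c0, ceOf_c1, ceOf_c2, ceOf_c3, ceOf_c4, ceOf_c5, ceOf_c6,
    ceOf_c7, map_mul, map_pow, map_inv, mul_inv_rev, inv_inv, pow_succ, pow_zero, one_mul, mul_one, mul_assoc,
    ha, hb, hc, hd, he, hf]

theorem extra6 {Γ : Type*} [Group Γ] (ψ : FreeGroup ON.Gen →* Γ)
    (hx : ∀ x ∈ coxNodes ON.edges, (ψ (FreeGroup.of x))⁻¹ = ψ (FreeGroup.of x)) :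
    ψ (ON.g * ON.e * (ON.d⁻¹ * ON.g * ON.d) * (ON.e⁻¹ * ON.g * ON.e) * (ON.d⁻¹ * ON.g * ON.d)) = ψ (wordElt gc w6) := by
  have ha := hx .a (by decide)
  have hb := hx .b (by decide)
  have hc := hx .c (by decide)
  have hd := hx .d (by decide)
  have he := hx .e (by decide)
  have hf := hx .f (by decide)
  simp only [w6, wordElt_cons, wordElt_nil, ceOf_c0, ceOf_c1, ceOf_c2, ceOf_c3, ceOf_c4, ceOf_c5, ceOf_c6,
    ceOf_c7, map_mul, map_pow, map_inv, mul_inv_rev, inv_inv, pow_succ, pow_zero, one_mul, mul_one, mul_assoc,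
    ha, hb, hc, hd, he, hf]

theorem hbase : ∀ b ∈ base, PresentedGroup.mk Rels (wordElt gc b) = 1 := by
  intro b hb
  rw [base_eq, List.mem_append] at hb
  rcases hb with hb | hb
  · rw [List.mem_map] at hb
    obtain ⟨⟨x, y⟩, hxy, rfl⟩ := hb
    rw [wordElt_pairw (gc_col x) (gc_col y)]
    exact cox_rel x y (pairs_nodes _ hxy).1 (pairs_nodes _ hxy).2
  · simp only [List.mem_cons, List.mem_nil_iff, or_false] at hb
    rcases hb with rfl | rfl | rfl | rfl | rfl | rfl | rfl | rfl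
    · rw [← extra0 (PresentedGroup.mk Rels) hxG]
      exact PresentedGroup.one_of_mem (Or.inr (by simp [ON.extra]))
    · rw [← extra1 (PresentedGroup.mk Rels) hxG]
      exact PresentedGroup.one_of_mem (Or.inr (by simp [ON.extra]))
    · rw [← extra2 (PresentedGroup.mk Rels) hxG]
      exact PresentedGroup.one_of_mem (Or.inr (by simp [ON.extra]))
    · rw [← extra3 (PresentedGroup.mk Rels) hxG]
      exact PresentedGroup.one_of_mem (Or.inr (by simp [ON.extra]))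
    · rw [← extra4 (PresentedGroup.mk Rels) hxG]
      exact PresentedGroup.one_of_mem (Or.inr (by simp [ON.extra]))
    · rw [← extra5 (PresentedGroup.mk Rels) hxG]
      exact PresentedGroup.one_of_mem (Or.inr (by simp [ON.extra]))
    · rw [← extra6 (PresentedGroup.mk Rels) hxG]
      exact PresentedGroup.one_of_mem (Or.inr (by simp [ON.extra]))
    · show PresentedGroup.mk Rels (wordElt gc [0, 1]) = 1
      rw [wordElt_cons, wordElt_cons, wordElt_nil, mul_one, ceOf_c0, ceOf_c1, mul_inv_cancel, map_one]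

theorem pair_cover : ∀ x y : ON.Gen, x ∈ coxNodes ON.edges → y ∈ coxNodes ON.edges →
    pairw (col x) (col y) (coxLabel ON.edges x y) ∈ base ∨
      ∃ b ∈ base, pairw (col x) (col y) (coxLabel ON.edges x y) = b.rotate 1 := by
  intro x y hx hy
  cases x <;> cases y <;>
    first
    | exact absurd hx (by decide)
    | exact absurd hy (by decide)
    | decide +kernel

theorem extra_mem : w0 ∈ base ∧ w1 ∈ base ∧ w2 ∈ base ∧ w3 ∈ base ∧ w4 ∈ base ∧ w5 ∈ base ∧ w6 ∈ base := by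
  decide +kernel

/-- every relator is covered by a base word, up to rotation -/
theorem rel_cover {N : ℕ} {px : ℕ → ℕ → ℕ} (hP : PHyp px N 8 INV)
    (hfix : ∀ b ∈ base, ∀ p < N, wapp px b p = p) :
    ∀ r ∈ Rels, ∀ ψ : FreeGroup ON.Gen →* Equiv.Perm (Fin N),
      (∀ c < 8, ψ (ceOf gc (invc INV c)) = (ψ (ceOf gc c))⁻¹) →
      ∃ w, (∀ c ∈ w, c < 8) ∧ ψ r = ψ (wordElt gc w) ∧ ∀ p < N, wapp px w p = p := by
  intro r hr ψ hψ
  have hx : ∀ x ∈ coxNodes ON.edges, (ψ (FreeGroup.of x))⁻¹ = ψ (FreeGroup.of x) := by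
    intro x hx
    have h1 := hψ (col x) (col_lt x)
    have h2 : invc INV (col x) = col x := by
      cases x
      · exact absurd hx (by decide)
      all_goals rfl
    rw [h2] at h1
    unfold ceOf at h1
    rw [gc_col x] at h1
    exact h1.symm
  rcases hr with hr | hr
  · obtain ⟨x, hxn, y, hyn, rfl⟩ := hr
    refine ⟨pairw (col x) (col y) (coxLabel ON.edges x y), ?_, ?_, ?_⟩
    · intro c hc
      rcases mem_pairw hc with rfl | rfl
      · exact col_lt x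
      · exact col_lt y
    · rw [wordElt_pairw (gc_col x) (gc_col y)]
    · rcases pair_cover x y hxn hyn with h | ⟨b, hb, h⟩
      · exact hfix _ h
      · rw [h]
        exact wapp_rotate hP b (hbl b hb) (hfix b hb) 1
  · have hr' : r ∈ ON.extra := hr
    simp only [ON.extra, List.mem_cons, List.mem_nil_iff, or_false] at hr'
    rcases hr' with rfl | rfl | rfl | rfl | rfl | rfl | rfl
    · exact ⟨w0, hbl _ extra_mem.1, extra0 ψ hx, hfix _ extra_mem.1⟩
    · exact ⟨w1, hbl _ extra_mem.2.1, extra1 ψ hx, hfix _ extra_mem.2.1⟩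
    · exact ⟨w2, hbl _ extra_mem.2.2.1, extra2 ψ hx, hfix _ extra_mem.2.2.1⟩
    · exact ⟨w3, hbl _ extra_mem.2.2.2.1, extra3 ψ hx, hfix _ extra_mem.2.2.2.1⟩
    · exact ⟨w4, hbl _ extra_mem.2.2.2.2.1, extra4 ψ hx, hfix _ extra_mem.2.2.2.2.1⟩
    · exact ⟨w5, hbl _ extra_mem.2.2.2.2.2.1, extra5 ψ hx, hfix _ extra_mem.2.2.2.2.2.1⟩
    · exact ⟨w6, hbl _ extra_mem.2.2.2.2.2.2, extra6 ψ hx, hfix _ extra_mem.2.2.2.2.2.2⟩

end Cfsg.Agent.Lib.Helper6.TCP.ON
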