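import Cfsg.Agent.Lib.Helper6.TC12
import Cfsg.Prelude.Def_Spor_Fi22

set_option autoImplicit false

namespace Cfsg.Agent.Lib.Helper6.TCP.Fi22

open Cfsg.Spor Cfsg.Agent.Lib.Helper6.TC

/-! # The presentation of Fi22: columns, base words and relators -/

abbrev Rels : Set (FreeGroup Fi22.Gen) := coxRelators Fi22.edges ∪ {r | r ∈ Fi22.extra}

/-- the generator of a column -/
def gen : ℕ → Fi22.Gen
  | 0 => .a | 1 => .b | 2 => .c | 3 => .d | 4 => .e | 5 => .f | 6 => .g | 7 => .h | _ => .i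

/-- the generator and the sign of a column -/
def gc (c : ℕ) : Fi22.Gen × Bool := (gen c, false)

/-- the column of a generator -/
def col : Fi22.Gen → ℕ
  | .a => 0 | .b => 1 | .c => 2 | .d => 3 | .e => 4 | .f => 5 | .g => 6 | .h => 7 | .i => 8

/-- the inverse columns (all generators are involutions) -/
def INV : ℕ := 36344967696

theorem invc_eq : ∀ c < 9, invc INV c = c := by
  intro c hc
  interval_cases c <;> rfl

theorem col_lt (g : Fi22.Gen) : col g < 9 := by cases g <;> decide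

theorem gc_col (g : Fi22.Gen) : gc (col g) = (g, false) := by cases g <;> rfl

theorem hC : CHyp gc col 9 INV where
  hcol := fun g => ⟨col_lt g, gc_col g⟩
  hgc := by
    intro c hc _
    interval_cases c <;> rfl
  hgc' := by
    intro c _ h
    exact absurd h (by simp [gc])

theorem hgen : ∀ g : Fi22.Gen, ∃ c < 9, gc c = (g, false) :=
  fun g => ⟨col g, col_lt g, gc_col g⟩

theorem all_nodes (x : Fi22.Gen) : x ∈ coxNodes Fi22.edges := by
  cases x <;> decide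

theorem cox_rel (x y : Fi22.Gen) :
    PresentedGroup.mk Rels ((FreeGroup.of x * FreeGroup.of y) ^ coxLabel Fi22.edges x y) = 1 :=
  PresentedGroup.one_of_mem (Or.inl ⟨x, all_nodes x, y, all_nodes y, rfl⟩)

theorem gen_sq (x : Fi22.Gen) :
    PresentedGroup.mk Rels (FreeGroup.of x) * PresentedGroup.mk Rels (FreeGroup.of x) = 1 := by
  have := cox_rel x x
  have h1 : coxLabel Fi22.edges x x = 1 := coxLabel_self _ x
  rw [h1, pow_one, map_mul] at this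
  exact this

theorem hinv1 : ∀ c < 9, invc INV c < 9 := by
  intro c hc
  rw [invc_eq c hc]
  exact hc

theorem hinvG : ∀ c < 9, PresentedGroup.mk Rels (ceOf gc (invc INV c)) =
    (PresentedGroup.mk Rels (ceOf gc c))⁻¹ := by
  intro c hc
  rw [invc_eq c hc]
  exact eq_inv_of_mul_eq_one_left (gen_sq (gen c))

/-- the pairs of generators giving the Coxeter base words -/
def pairs : List (Fi22.Gen × Fi22.Gen) :=
  [(.a, .a), (.b, .b), (.c, .c), (.d, .d), (.e, .e), (.f, .f), (.g, .g), (.h, .h), (.i, .i), (.a, .b), (.a, .c), (.a, .d), (.a, .e), (.a, .f), (.a, .g), (.a, .h), (.a, .i), (.b, .c), (.b, .d), (.b, .e), (.b, .f), (.b, .g), (.b, .h), (.b, .i), (.c, .d), (.c, .e), (.c, .f), (.c, .g), (.c, .h), (.c, .i), (.d, .e), (.d, .f), (.d, .g), (.d, .h), (.d, .i), (.e, .f), (.e, .g), (.e, .h), (.e, .i), (.f, .g), (.f, .h), (.f, .i), (.g, .h), (.g, .i), (.h, .i)]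

/-- the periods of the further relators -/
def u1 : List ℕ := [3, 2, 1, 3, 4, 5, 3, 7, 8]
def u2 : List ℕ := [0, 1, 2, 3, 4, 5, 7]
def u3 : List ℕ := [1, 2, 3, 4, 5, 6, 7]

/-- the base words -/
def base : List (List ℕ) :=
  [[0, 0],
  [1, 1],
  [2, 2],
  [3, 3],
  [4, 4],
  [5, 5],
  [6, 6],
  [7, 7],
  [8, 8],
  [0, 1, 0, 1, 0, 1],
  [0, 2, 0, 2],
  [0, 3, 0, 3],
  [0, 4, 0, 4],
  [0, 5, 0, 5],
  [0, 6, 0, 6],
  [0, 7, 0, 7],
  [0, 8, 0, 8],
  [1, 2, 1, 2, 1, 2],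
  [1, 3, 1, 3],
  [1, 4, 1, 4],
  [1, 5, 1, 5],
  [1, 6, 1, 6],
  [1, 7, 1, 7],
  [1, 8, 1, 8],
  [2, 3, 2, 3, 2, 3],
  [2, 4, 2, 4],
  [2, 5, 2, 5],
  [2, 6, 2, 6],
  [2, 7, 2, 7],
  [2, 8, 2, 8],
  [3, 4, 3, 4, 3, 4],
  [3, 5, 3, 5],
  [3, 6, 3, 6],
  [3, 7, 3, 7, 3, 7],
  [3, 8, 3, 8],
  [4, 5, 4, 5, 4, 5],
  [4, 6, 4, 6],
  [4, 7, 4, 7],
  [4, 8, 4, 8],
  [5, 6, 5, 6, 5, 6],
  [5, 7, 5, 7],
  [5, 8, 5, 8],
  [6, 7, 6, 7],
  [6, 8, 6, 8],
  [7, 8, 7, 8, 7, 8],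
  [3, 2, 1, 3, 4, 5, 3, 7, 8, 3, 2, 1, 3, 4, 5, 3, 7, 8, 3, 2, 1, 3, 4, 5, 3, 7, 8, 3, 2, 1, 3, 4, 5, 3, 7, 8, 3, 2, 1, 3, 4, 5, 3, 7, 8, 3, 2, 1, 3, 4, 5, 3, 7, 8, 3, 2, 1, 3, 4, 5, 3, 7, 8, 3, 2, 1, 3, 4, 5, 3, 7, 8, 3, 2, 1, 3, 4, 5, 3, 7, 8, 3, 2, 1, 3, 4, 5, 3, 7, 8],
  [0, 1, 2, 3, 4, 5, 7, 0, 1, 2, 3, 4, 5, 7, 0, 1, 2, 3, 4, 5, 7, 0, 1, 2, 3, 4, 5, 7, 0, 1, 2, 3, 4, 5, 7, 0, 1, 2, 3, 4, 5, 7, 0, 1, 2, 3, 4, 5, 7, 0, 1, 2, 3, 4, 5, 7, 0, 1, 2, 3, 4, 5, 7],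
  [1, 2, 3, 4, 5, 6, 7, 1, 2, 3, 4, 5, 6, 7, 1, 2, 3, 4, 5, 6, 7, 1, 2, 3, 4, 5, 6, 7, 1, 2, 3, 4, 5, 6, 7, 1, 2, 3, 4, 5, 6, 7, 1, 2, 3, 4, 5, 6, 7, 1, 2, 3, 4, 5, 6, 7, 1, 2, 3, 4, 5, 6, 7]]

theorem base_eq : base = pairs.map (fun xy => pairw (col xy.1) (col xy.2) (coxLabel Fi22.edges xy.1 xy.2)) ++
    [(List.replicate 10 u1).flatten, (List.replicate 9 u2).flatten, (List.replicate 9 u3).flatten] := by
  decide +kernel

theorem hbl : ∀ b ∈ base, ∀ c ∈ b, c < 9 := by decide +kernel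

theorem wordElt_u1 : wordElt gc u1 = Fi22.d * Fi22.c * Fi22.b * Fi22.d * Fi22.e * Fi22.f * Fi22.d * Fi22.h * Fi22.i := by
  simp only [u1, wordElt_cons, wordElt_nil, mul_one, mul_assoc]
  rfl

theorem wordElt_u2 : wordElt gc u2 = Fi22.a * Fi22.b * Fi22.c * Fi22.d * Fi22.e * Fi22.f * Fi22.h := by
  simp only [u2, wordElt_cons, wordElt_nil, mul_one, mul_assoc]
  rfl

theorem wordElt_u3 : wordElt gc u3 = Fi22.b * Fi22.c * Fi22.d * Fi22.e * Fi22.f * Fi22.g * Fi22.h := by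
  simp only [u3, wordElt_cons, wordElt_nil, mul_one, mul_assoc]
  rfl

theorem hbase : ∀ b ∈ base, PresentedGroup.mk Rels (wordElt gc b) = 1 := by
  intro b hb
  rw [base_eq, List.mem_append] at hb
  rcases hb with hb | hb
  · rw [List.mem_map] at hb
    obtain ⟨⟨x, y⟩, _, rfl⟩ := hb
    rw [wordElt_pairw (gc_col x) (gc_col y)]
    exact cox_rel x y
  · simp only [List.mem_cons, List.mem_nil_iff, or_false] at hb
    apply PresentedGroup.one_of_mem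
    right
    change wordElt gc b ∈ Fi22.extra
    rcases hb with rfl | rfl | rfl
    · rw [wordElt_flatten_replicate, wordElt_u1]; simp [Fi22.extra]
    · rw [wordElt_flatten_replicate, wordElt_u2]; simp [Fi22.extra]
    · rw [wordElt_flatten_replicate, wordElt_u3]; simp [Fi22.extra]

theorem pair_cover : ∀ x y : Fi22.Gen,
    pairw (col x) (col y) (coxLabel Fi22.edges x y) ∈ base ∨
      ∃ b ∈ base, pairw (col x) (col y) (coxLabel Fi22.edges x y) = b.rotate 1 := by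
  intro x y
  cases x <;> cases y <;> decide +kernel

theorem extra_mem : (List.replicate 10 u1).flatten ∈ base ∧ (List.replicate 9 u2).flatten ∈ base ∧
    (List.replicate 9 u3).flatten ∈ base := by
  decide +kernel

/-- every relator is covered by a base word, up to rotation -/
theorem rel_cover {N : ℕ} {px : ℕ → ℕ → ℕ} (hP : PHyp px N 9 INV)
    (hfix : ∀ b ∈ base, ∀ p < N, wapp px b p = p) :
    ∀ r ∈ Rels, ∀ ψ : FreeGroup Fi22.Gen →* Equiv.Perm (Fin N),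
      (∀ c < 9, ψ (ceOf gc (invc INV c)) = (ψ (ceOf gc c))⁻¹) →
      ∃ w, (∀ c ∈ w, c < 9) ∧ ψ r = ψ (wordElt gc w) ∧ ∀ p < N, wapp px w p = p := by
  intro r hr ψ _
  rcases hr with hr | hr
  · obtain ⟨x, _, y, _, rfl⟩ := hr
    refine ⟨pairw (col x) (col y) (coxLabel Fi22.edges x y), ?_, ?_, ?_⟩
    · intro c hc
      rcases mem_pairw hc with rfl | rfl
      · exact col_lt x
      · exact col_lt y
    · rw [wordElt_pairw (gc_col x) (gc_col y)]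
    · rcases pair_cover x y with h | ⟨b, hb, h⟩
      · exact hfix _ h
      · rw [h]
        exact wapp_rotate hP b (hbl b hb) (hfix b hb) 1
  · have hr' : r ∈ Fi22.extra := hr
    simp only [Fi22.extra, List.mem_cons, List.mem_nil_iff, or_false] at hr'
    rcases hr' with rfl | rfl | rfl
    · refine ⟨(List.replicate 10 u1).flatten, hbl _ extra_mem.1, ?_, hfix _ extra_mem.1⟩
      rw [wordElt_flatten_replicate, wordElt_u1]
    · refine ⟨(List.replicate 9 u2).flatten, hbl _ extra_mem.2.1, ?_, hfix _ extra_mem.2.1⟩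
      rw [wordElt_flatten_replicate, wordElt_u2]
    · refine ⟨(List.replicate 9 u3).flatten, hbl _ extra_mem.2.2, ?_, hfix _ extra_mem.2.2⟩
      rw [wordElt_flatten_replicate, wordElt_u3]

end Cfsg.Agent.Lib.Helper6.TCP.Fi22
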