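import Cfsg.Agent.Lib.Helper6.WP8

set_option autoImplicit false

namespace Cfsg.Agent.Lib.Helper6.TCP.O732

open Cfsg.Agent.Lib.Helper6.TC

/-! # A group presented by words: a central extension of the orthogonal group PΩ(7, 3) by a group of order 2

Columns: 0..7 the letters b, …, i; 8..15 their inverses. The central element is the square of the first letter. -/

/-- the relators as words of columns -/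
def base : List (List ℕ) := [
  [0, 8],
  [1, 9],
  [2, 10],
  [3, 11],
  [4, 12],
  [5, 13],
  [6, 14],
  [7, 15],
  [0, 0, 0, 0],
  [1, 1, 0, 0],
  [2, 2, 0, 0],
  [3, 3, 0, 0],
  [4, 4, 0, 0],
  [5, 5, 0, 0],
  [6, 6, 0, 0],
  [7, 7, 0, 0],
  [0, 1, 0, 1, 0, 1],
  [0, 2, 0, 2, 0, 0],
  [0, 3, 0, 3, 0, 0],
  [0, 4, 0, 4, 0, 0],
  [0, 5, 0, 5, 0, 0],
  [0, 6, 0, 6, 0, 0],
  [0, 7, 0, 7, 0, 0],
  [1, 2, 1, 2, 1, 2],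
  [1, 3, 1, 3, 0, 0],
  [1, 4, 1, 4, 0, 0],
  [1, 5, 1, 5, 0, 0],
  [1, 6, 1, 6, 0, 0],
  [1, 7, 1, 7, 0, 0],
  [2, 3, 2, 3, 2, 3],
  [2, 4, 2, 4, 0, 0],
  [2, 5, 2, 5, 0, 0],
  [2, 6, 2, 6, 2, 6],
  [2, 7, 2, 7, 0, 0],
  [3, 4, 3, 4, 3, 4],
  [3, 5, 3, 5, 0, 0],
  [3, 6, 3, 6, 0, 0],
  [3, 7, 3, 7, 0, 0],
  [4, 5, 4, 5, 4, 5],
  [4, 6, 4, 6, 0, 0],
  [4, 7, 4, 7, 0, 0],
  [5, 6, 5, 6, 0, 0],
  [5, 7, 5, 7, 0, 0],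
  [6, 7, 6, 7, 6, 7],
  [2, 1, 0, 2, 3, 4, 2, 6, 7, 2, 1, 0, 2, 3, 4, 2, 6, 7, 2, 1, 0, 2, 3, 4, 2, 6, 7, 2, 1, 0, 2, 3, 4, 2, 6, 7, 2, 1, 0, 2, 3, 4, 2, 6, 7, 2, 1, 0, 2, 3, 4, 2, 6, 7, 2, 1, 0, 2, 3, 4, 2, 6, 7, 2, 1, 0, 2, 3, 4, 2, 6, 7, 2, 1, 0, 2, 3, 4, 2, 6, 7, 2, 1, 0, 2, 3, 4, 2, 6, 7, 0, 0],
  [0, 1, 2, 3, 4, 5, 6, 0, 1, 2, 3, 4, 5, 6, 0, 1, 2, 3, 4, 5, 6, 0, 1, 2, 3, 4, 5, 6, 0, 1, 2, 3, 4, 5, 6, 0, 1, 2, 3, 4, 5, 6, 0, 1, 2, 3, 4, 5, 6, 0, 1, 2, 3, 4, 5, 6, 0, 1, 2, 3, 4, 5, 6],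
  [1, 0, 0, 9, 8, 8],
  [2, 0, 0, 10, 8, 8],
  [3, 0, 0, 11, 8, 8],
  [4, 0, 0, 12, 8, 8],
  [5, 0, 0, 13, 8, 8],
  [6, 0, 0, 14, 8, 8],
  [7, 0, 0, 15, 8, 8]]

/-- the inverse columns -/
def INV : ℕ := 8526495043095935640

abbrev Rels : Set (FreeGroup (Fin 16)) := wrels 16 base

abbrev gc : ℕ → Fin 16 × Bool := gcF 16

/-- the presented group -/
abbrev G : Type := WG 16 base

theorem hC : CHyp gc (fun g : Fin 16 => g.val) 16 INV := wp_hC' INV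

theorem hgen : ∀ g : Fin 16, ∃ c < 16, gc c = (g, false) := wp_hgen

theorem hinv1 : ∀ c < 16, invc INV c < 16 := by decide

theorem hinvinv : ∀ c < 16, invc INV (invc INV c) = c := by decide

theorem hbl : ∀ b ∈ base, ∀ c ∈ b, c < 16 := by decide +kernel

theorem hbase : ∀ b ∈ base, PresentedGroup.mk Rels (wordElt gc b) = 1 := wp_hbase

theorem hpair : ∀ c < 16, [c, invc INV c] ∈ base ∨ [invc INV c, c] ∈ base := by decide +kernel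

theorem hinvG : ∀ c < 16, PresentedGroup.mk Rels (ceOf gc (invc INV c)) =
    (PresentedGroup.mk Rels (ceOf gc c))⁻¹ := wp_hinvG' hpair

theorem rel_cover {N : ℕ} {px : ℕ → ℕ → ℕ} (_hP : PHyp px N 16 INV)
    (hfix : ∀ b ∈ base, ∀ p < N, wapp px b p = p) :
    ∀ r ∈ Rels, ∀ ψ : FreeGroup (Fin 16) →* Equiv.Perm (Fin N),
      (∀ c < 16, ψ (ceOf gc (invc INV c)) = (ψ (ceOf gc c))⁻¹) →
      ∃ w, (∀ c ∈ w, c < 16) ∧ ψ r = ψ (wordElt gc w) ∧ ∀ p < N, wapp px w p = p :=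
  wp_rel_cover hbl hfix

end Cfsg.Agent.Lib.Helper6.TCP.O732
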