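import Cfsg.Agent.Lib.Helper6.WP8

set_option autoImplicit false

namespace Cfsg.Agent.Lib.Helper6.TCP.O733

open Cfsg.Agent.Lib.Helper6.TC

/-! # A group presented by words: a central extension of the orthogonal group PΩ(7, 3) by a cyclic group of order 3

Columns: 0..7 the letters b, …, i; 8 the central element z; 9 its inverse. -/

/-- the relators as words of columns -/
def base : List (List ℕ) := [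
  [0, 0],
  [1, 1],
  [2, 2],
  [3, 3],
  [4, 4],
  [5, 5],
  [6, 6],
  [7, 7],
  [8, 9],
  [8, 8, 8],
  [0, 8, 0, 9],
  [1, 8, 1, 9],
  [2, 8, 2, 9],
  [3, 8, 3, 9],
  [4, 8, 4, 9],
  [5, 8, 5, 9],
  [6, 8, 6, 9],
  [7, 8, 7, 9],
  [0, 1, 0, 1, 0, 1],
  [0, 2, 0, 2],
  [0, 3, 0, 3],
  [0, 4, 0, 4],
  [0, 5, 0, 5],
  [0, 6, 0, 6],
  [0, 7, 0, 7],
  [1, 2, 1, 2, 1, 2],
  [1, 3, 1, 3],
  [1, 4, 1, 4],
  [1, 5, 1, 5],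
  [1, 6, 1, 6],
  [1, 7, 1, 7],
  [2, 3, 2, 3, 2, 3],
  [2, 4, 2, 4],
  [2, 5, 2, 5],
  [2, 6, 2, 6, 2, 6],
  [2, 7, 2, 7],
  [3, 4, 3, 4, 3, 4],
  [3, 5, 3, 5],
  [3, 6, 3, 6],
  [3, 7, 3, 7],
  [4, 5, 4, 5, 4, 5],
  [4, 6, 4, 6],
  [4, 7, 4, 7],
  [5, 6, 5, 6],
  [5, 7, 5, 7],
  [6, 7, 6, 7, 6, 7],
  [2, 1, 0, 2, 3, 4, 2, 6, 7, 2, 1, 0, 2, 3, 4, 2, 6, 7, 2, 1, 0, 2, 3, 4, 2, 6, 7, 2, 1, 0, 2, 3, 4, 2, 6, 7, 2, 1, 0, 2, 3, 4, 2, 6, 7, 2, 1, 0, 2, 3, 4, 2, 6, 7, 2, 1, 0, 2, 3, 4, 2, 6, 7, 2, 1, 0, 2, 3, 4, 2, 6, 7, 2, 1, 0, 2, 3, 4, 2, 6, 7, 2, 1, 0, 2, 3, 4, 2, 6, 7, 9],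
  [0, 1, 2, 3, 4, 5, 6, 0, 1, 2, 3, 4, 5, 6, 0, 1, 2, 3, 4, 5, 6, 0, 1, 2, 3, 4, 5, 6, 0, 1, 2, 3, 4, 5, 6, 0, 1, 2, 3, 4, 5, 6, 0, 1, 2, 3, 4, 5, 6, 0, 1, 2, 3, 4, 5, 6, 0, 1, 2, 3, 4, 5, 6]]

/-- the inverse columns -/
def INV : ℕ := 590395748880

abbrev Rels : Set (FreeGroup (Fin 10)) := wrels 10 base

abbrev gc : ℕ → Fin 10 × Bool := gcF 10

/-- the presented group -/
abbrev G : Type := WG 10 base

theorem hC : CHyp gc (fun g : Fin 10 => g.val) 10 INV := wp_hC' INV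

theorem hgen : ∀ g : Fin 10, ∃ c < 10, gc c = (g, false) := wp_hgen

theorem hinv1 : ∀ c < 10, invc INV c < 10 := by decide

theorem hinvinv : ∀ c < 10, invc INV (invc INV c) = c := by decide

theorem hbl : ∀ b ∈ base, ∀ c ∈ b, c < 10 := by decide +kernel

theorem hbase : ∀ b ∈ base, PresentedGroup.mk Rels (wordElt gc b) = 1 := wp_hbase

theorem hpair : ∀ c < 10, [c, invc INV c] ∈ base ∨ [invc INV c, c] ∈ base := by decide +kernel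

theorem hinvG : ∀ c < 10, PresentedGroup.mk Rels (ceOf gc (invc INV c)) =
    (PresentedGroup.mk Rels (ceOf gc c))⁻¹ := wp_hinvG' hpair

theorem rel_cover {N : ℕ} {px : ℕ → ℕ → ℕ} (_hP : PHyp px N 10 INV)
    (hfix : ∀ b ∈ base, ∀ p < N, wapp px b p = p) :
    ∀ r ∈ Rels, ∀ ψ : FreeGroup (Fin 10) →* Equiv.Perm (Fin N),
      (∀ c < 10, ψ (ceOf gc (invc INV c)) = (ψ (ceOf gc c))⁻¹) →
      ∃ w, (∀ c ∈ w, c < 10) ∧ ψ r = ψ (wordElt gc w) ∧ ∀ p < N, wapp px w p = p :=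
  wp_rel_cover hbl hfix

end Cfsg.Agent.Lib.Helper6.TCP.O733
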