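import Cfsg.Agent.Lib.Helper6.TC12
import Cfsg.Prelude.Def_Spor_Suz

set_option autoImplicit false

namespace Cfsg.Agent.Lib.Helper6.TCP.Suz

open Cfsg.Spor Cfsg.Agent.Lib.Helper6.TC

/-! # The presentation of Suz: columns, base words and relators -/

abbrev Rels : Set (FreeGroup Suz.Gen) := coxRelators Suz.edges ∪ {r | r ∈ Suz.extra}

/-- the generator of a column -/
def gen : ℕ → Suz.Gen
  | 0 => .a | 1 => .b | 2 => .c | 3 => .d | 4 => .e | 5 => .f | _ => .g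

/-- the generator and the sign of a column -/
def gc (c : ℕ) : Suz.Gen × Bool := (gen c, false)

theorem ceOf_gc (c : ℕ) : ceOf gc c = FreeGroup.of (gen c) := rfl

/-- the column of a generator -/
def col : Suz.Gen → ℕ
  | .a => 0 | .b => 1 | .c => 2 | .d => 3 | .e => 4 | .f => 5 | .g => 6

/-- the inverse columns (all generators are involutions) -/
def INV : ℕ := 106181136

theorem invc_eq : ∀ c < 7, invc INV c = c := by
  intro c hc
  interval_cases c <;> rfl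

theorem col_lt (g : Suz.Gen) : col g < 7 := by cases g <;> decide

theorem gc_col (g : Suz.Gen) : gc (col g) = (g, false) := by cases g <;> rfl

theorem hC : CHyp gc col 7 INV where
  hcol := fun g => ⟨col_lt g, gc_col g⟩
  hgc := by
    intro c hc _
    interval_cases c <;> rfl
  hgc' := by
    intro c _ h
    exact absurd h (by simp [gc])

theorem hgen : ∀ g : Suz.Gen, ∃ c < 7, gc c = (g, false) :=
  fun g => ⟨col g, col_lt g, gc_col g⟩

theorem all_nodes (x : Suz.Gen) : x ∈ coxNodes Suz.edges := by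
  cases x <;> decide

theorem cox_rel (x y : Suz.Gen) :
    PresentedGroup.mk Rels ((FreeGroup.of x * FreeGroup.of y) ^ coxLabel Suz.edges x y) = 1 :=
  PresentedGroup.one_of_mem (Or.inl ⟨x, all_nodes x, y, all_nodes y, rfl⟩)

theorem gen_sq (x : Suz.Gen) :
    PresentedGroup.mk Rels (FreeGroup.of x) * PresentedGroup.mk Rels (FreeGroup.of x) = 1 := by
  have := cox_rel x x
  have h1 : coxLabel Suz.edges x x = 1 := coxLabel_self _ x
  rw [h1, pow_one, map_mul] at this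
  exact this

theorem hxG (x : Suz.Gen) : (PresentedGroup.mk Rels (FreeGroup.of x))⁻¹ =
    PresentedGroup.mk Rels (FreeGroup.of x) :=
  (eq_inv_of_mul_eq_one_left (gen_sq x)).symm

theorem hinv1 : ∀ c < 7, invc INV c < 7 := by
  intro c hc
  rw [invc_eq c hc]
  exact hc

theorem hinvG : ∀ c < 7, PresentedGroup.mk Rels (ceOf gc (invc INV c)) =
    (PresentedGroup.mk Rels (ceOf gc c))⁻¹ := by
  intro c hc
  rw [invc_eq c hc]
  exact eq_inv_of_mul_eq_one_left (gen_sq (gen c))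

/-- the pairs of generators giving the Coxeter base words -/
def pairs : List (Suz.Gen × Suz.Gen) :=
  [(.a, .a), (.b, .b), (.c, .c), (.d, .d), (.e, .e), (.f, .f), (.g, .g), (.a, .b), (.a, .c), (.a, .d), (.a, .e), (.a, .f), (.a, .g), (.b, .c), (.b, .d), (.b, .e), (.b, .f), (.b, .g), (.c, .d), (.c, .e), (.c, .f), (.c, .g), (.d, .e), (.d, .f), (.d, .g), (.e, .f), (.e, .g), (.f, .g)]

def w0 : List ℕ := [0, 3, 2, 3, 2, 3, 2, 3, 2]
def w1 : List ℕ := [0, 6, 5, 6, 5]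
def u2 : List ℕ := [0, 1, 2, 5]
def u3 : List ℕ := [1, 5, 6]
def w4 : List ℕ := [1, 2, 3, 2, 3, 1, 2, 3, 2, 3, 1, 2, 3, 2, 3, 1, 2, 3, 2, 3, 1, 2, 3, 2, 3, 4, 1, 2, 3, 2, 3, 1, 2, 3, 2, 3, 1, 2, 3, 2, 3, 1, 2, 3, 2, 3, 1, 2, 3, 2, 3, 4, 1, 2, 3, 2, 3, 1, 2, 3, 2, 3, 1, 2, 3, 2, 3, 1, 2, 3, 2, 3, 1, 2, 3, 2, 3, 4]

/-- the base words -/
def base : List (List ℕ) :=
  [[0, 0],
  [1, 1],
  [2, 2],
  [3, 3],
  [4, 4],
  [5, 5],
  [6, 6],
  [0, 1, 0, 1, 0, 1, 0, 1, 0, 1],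
  [0, 2, 0, 2],
  [0, 3, 0, 3],
  [0, 4, 0, 4],
  [0, 5, 0, 5],
  [0, 6, 0, 6],
  [1, 2, 1, 2, 1, 2],
  [1, 3, 1, 3],
  [1, 4, 1, 4],
  [1, 5, 1, 5, 1, 5],
  [1, 6, 1, 6, 1, 6],
  [2, 3, 2, 3, 2, 3, 2, 3, 2, 3, 2, 3, 2, 3, 2, 3],
  [2, 4, 2, 4],
  [2, 5, 2, 5],
  [2, 6, 2, 6],
  [3, 4, 3, 4, 3, 4],
  [3, 5, 3, 5],
  [3, 6, 3, 6],
  [4, 5, 4, 5],
  [4, 6, 4, 6],
  [5, 6, 5, 6, 5, 6, 5, 6],
  [0, 3, 2, 3, 2, 3, 2, 3, 2],
  [0, 6, 5, 6, 5],
  [0, 1, 2, 5, 0, 1, 2, 5, 0, 1, 2, 5, 0, 1, 2, 5, 0, 1, 2, 5],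
  [1, 5, 6, 1, 5, 6, 1, 5, 6, 1, 5, 6, 1, 5, 6],
  [1, 2, 3, 2, 3, 1, 2, 3, 2, 3, 1, 2, 3, 2, 3, 1, 2, 3, 2, 3, 1, 2, 3, 2, 3, 4, 1, 2, 3, 2, 3, 1, 2, 3, 2, 3, 1, 2, 3, 2, 3, 1, 2, 3, 2, 3, 1, 2, 3, 2, 3, 4, 1, 2, 3, 2, 3, 1, 2, 3, 2, 3, 1, 2, 3, 2, 3, 1, 2, 3, 2, 3, 1, 2, 3, 2, 3, 4]]

theorem base_eq : base = pairs.map (fun xy => pairw (col xy.1) (col xy.2) (coxLabel Suz.edges xy.1 xy.2)) ++
    [w0, w1, (List.replicate 5 u2).flatten, (List.replicate 5 u3).flatten, w4] := by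
  decide +kernel

theorem hbl : ∀ b ∈ base, ∀ c ∈ b, c < 7 := by decide +kernel

theorem extra0 {Γ : Type*} [Group Γ] (ψ : FreeGroup Suz.Gen →* Γ) (hx : ∀ x : Suz.Gen, (ψ (FreeGroup.of x))⁻¹ = ψ (FreeGroup.of x)) :
    ψ (Suz.a * ((Suz.c * Suz.d) ^ 4)⁻¹) = ψ (wordElt gc w0) := by
  simp only [w0, wordElt_cons, wordElt_nil, ceOf_gc, gen, map_mul, map_pow, map_inv, mul_inv_rev, pow_succ, pow_zero, one_mul, mul_one, mul_assoc, hx]

theorem extra1 {Γ : Type*} [Group Γ] (ψ : FreeGroup Suz.Gen →* Γ) (hx : ∀ x : Suz.Gen, (ψ (FreeGroup.of x))⁻¹ = ψ (FreeGroup.of x)) :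
    ψ (Suz.a * ((Suz.f * Suz.g) ^ 2)⁻¹) = ψ (wordElt gc w1) := by
  simp only [w1, wordElt_cons, wordElt_nil, ceOf_gc, gen, map_mul, map_pow, map_inv, mul_inv_rev, pow_succ, pow_zero, one_mul, mul_one, mul_assoc, hx]

theorem wordElt_u2 : wordElt gc u2 = Suz.a * Suz.b * Suz.c * Suz.f := by
  simp only [u2, wordElt_cons, wordElt_nil, mul_one, mul_assoc]
  rfl

theorem extra2 {Γ : Type*} [Group Γ] (ψ : FreeGroup Suz.Gen →* Γ) (_hx : ∀ x : Suz.Gen, (ψ (FreeGroup.of x))⁻¹ = ψ (FreeGroup.of x)) :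
    ψ ((Suz.a * Suz.b * Suz.c * Suz.f) ^ 5) = ψ (wordElt gc (List.replicate 5 u2).flatten) := by
  rw [wordElt_flatten_replicate, wordElt_u2]

theorem wordElt_u3 : wordElt gc u3 = Suz.b * Suz.f * Suz.g := by
  simp only [u3, wordElt_cons, wordElt_nil, mul_one, mul_assoc]
  rfl

theorem extra3 {Γ : Type*} [Group Γ] (ψ : FreeGroup Suz.Gen →* Γ) (_hx : ∀ x : Suz.Gen, (ψ (FreeGroup.of x))⁻¹ = ψ (FreeGroup.of x)) :
    ψ ((Suz.b * Suz.f * Suz.g) ^ 5) = ψ (wordElt gc (List.replicate 5 u3).flatten) := by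
  rw [wordElt_flatten_replicate, wordElt_u3]

theorem extra4 {Γ : Type*} [Group Γ] (ψ : FreeGroup Suz.Gen →* Γ) (hx : ∀ x : Suz.Gen, (ψ (FreeGroup.of x))⁻¹ = ψ (FreeGroup.of x)) :
    ψ (((Suz.b * Suz.c * Suz.d * Suz.c * Suz.d) ^ 5 * Suz.e) ^ 3) = ψ (wordElt gc w4) := by
  simp only [w4, wordElt_cons, wordElt_nil, ceOf_gc, gen, map_mul, map_pow, map_inv, mul_inv_rev, pow_succ, pow_zero, one_mul, mul_one, mul_assoc, hx]

theorem hbase : ∀ b ∈ base, PresentedGroup.mk Rels (wordElt gc b) = 1 := by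
  intro b hb
  rw [base_eq, List.mem_append] at hb
  rcases hb with hb | hb
  · rw [List.mem_map] at hb
    obtain ⟨⟨x, y⟩, _, rfl⟩ := hb
    rw [wordElt_pairw (gc_col x) (gc_col y)]
    exact cox_rel x y
  · simp only [List.mem_cons, List.mem_nil_iff, or_false] at hb
    rcases hb with rfl | rfl | rfl | rfl | rfl
    · rw [← extra0 (PresentedGroup.mk Rels) hxG]
      exact PresentedGroup.one_of_mem (Or.inr (by simp [Suz.extra]))
    · rw [← extra1 (PresentedGroup.mk Rels) hxG]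
      exact PresentedGroup.one_of_mem (Or.inr (by simp [Suz.extra]))
    · rw [← extra2 (PresentedGroup.mk Rels) hxG]
      exact PresentedGroup.one_of_mem (Or.inr (by simp [Suz.extra]))
    · rw [← extra3 (PresentedGroup.mk Rels) hxG]
      exact PresentedGroup.one_of_mem (Or.inr (by simp [Suz.extra]))
    · rw [← extra4 (PresentedGroup.mk Rels) hxG]
      exact PresentedGroup.one_of_mem (Or.inr (by simp [Suz.extra]))

theorem pair_cover : ∀ x y : Suz.Gen,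
    pairw (col x) (col y) (coxLabel Suz.edges x y) ∈ base ∨
      ∃ b ∈ base, pairw (col x) (col y) (coxLabel Suz.edges x y) = b.rotate 1 := by
  intro x y
  cases x <;> cases y <;> decide +kernel

theorem extra_mem : w0 ∈ base ∧ w1 ∈ base ∧ (List.replicate 5 u2).flatten ∈ base ∧ (List.replicate 5 u3).flatten ∈ base ∧ w4 ∈ base := by
  decide +kernel

/-- every relator is covered by a base word, up to rotation -/
theorem rel_cover {N : ℕ} {px : ℕ → ℕ → ℕ} (hP : PHyp px N 7 INV)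
    (hfix : ∀ b ∈ base, ∀ p < N, wapp px b p = p) :
    ∀ r ∈ Rels, ∀ ψ : FreeGroup Suz.Gen →* Equiv.Perm (Fin N),
      (∀ c < 7, ψ (ceOf gc (invc INV c)) = (ψ (ceOf gc c))⁻¹) →
      ∃ w, (∀ c ∈ w, c < 7) ∧ ψ r = ψ (wordElt gc w) ∧ ∀ p < N, wapp px w p = p := by
  intro r hr ψ hψ
  have hx : ∀ x : Suz.Gen, (ψ (FreeGroup.of x))⁻¹ = ψ (FreeGroup.of x) := by
    intro x
    have := hψ (col x) (col_lt x)
    rw [invc_eq _ (col_lt x)] at this
    unfold ceOf at this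
    rw [gc_col x] at this
    exact this.symm
  rcases hr with hr | hr
  · obtain ⟨x, _, y, _, rfl⟩ := hr
    refine ⟨pairw (col x) (col y) (coxLabel Suz.edges x y), ?_, ?_, ?_⟩
    · intro c hc
      rcases mem_pairw hc with rfl | rfl
      · exact col_lt x
      · exact col_lt y
    · rw [wordElt_pairw (gc_col x) (gc_col y)]
    · rcases pair_cover x y with h | ⟨b, hb, h⟩
      · exact hfix _ h
      · rw [h]
        exact wapp_rotate hP b (hbl b hb) (hfix b hb) 1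
  · have hr' : r ∈ Suz.extra := hr
    simp only [Suz.extra, List.mem_cons, List.mem_nil_iff, or_false] at hr'
    rcases hr' with rfl | rfl | rfl | rfl | rfl
    · exact ⟨w0, hbl _ extra_mem.1, extra0 ψ hx, hfix _ extra_mem.1⟩
    · exact ⟨w1, hbl _ extra_mem.2.1, extra1 ψ hx, hfix _ extra_mem.2.1⟩
    · exact ⟨(List.replicate 5 u2).flatten, hbl _ extra_mem.2.2.1, extra2 ψ hx, hfix _ extra_mem.2.2.1⟩
    · exact ⟨(List.replicate 5 u3).flatten, hbl _ extra_mem.2.2.2.1, extra3 ψ hx, hfix _ extra_mem.2.2.2.1⟩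
    · exact ⟨w4, hbl _ extra_mem.2.2.2.2, extra4 ψ hx, hfix _ extra_mem.2.2.2.2⟩

end Cfsg.Agent.Lib.Helper6.TCP.Suz
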